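import Groth.Agent.H29Ref.DivClass
import Groth.Agent.H29Ref.DivIdeal
import Groth.Agent.H29Ref.DivisorPart
import Groth.Agent.H12Pic.OpenLine.Rigid
import Groth.Agent.H23Para.Principal

/-!
# Orders of rational sections of invertible modules
-/

set_option autoImplicit false
set_option linter.style.haveILetI false

universe u

open CategoryTheory CategoryTheory.Limits AlgebraicGeometry Opposite TopologicalSpace
open Groth.Agent.H11Tilde Groth.Agent.H29Ref

namespace Groth.Agent.H11PicBlow

open H8Props.FunDescent (StalkFree)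

variable {X : Scheme.{u}} [IsIntegral X] [IsLocallyNoetherian X]

theorem stalkFree_invertible {N : X.Modules} (hN : PicF.IsInvertible N) : StalkFree N 1 (genericPoint X) :=
  stalkFree_generic N (H12Pic.OpenLine.isRef1_of_isInvertible hN).1 (H12Pic.OpenLine.isRef1_of_isInvertible hN).2.2

theorem secO_germ_of_isGen {N : X.Modules} {V : X.Opens} {g : Γ(N, V)} (hg : IsGen N g) {x : X} (hx : x ∈ V)
    (hx1 : Order.coheight x = 1) (hη : genericPoint X ∈ V) :
    secO N x (N.presheaf.germ V (genericPoint X) hη g) = 0 := by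
  have ht := H12Pic.OpenLine.isStalkGen_germ hg hx
  have hs : sp N x (N.presheaf.germ V x hx g) = N.presheaf.germ V (genericPoint X) hη g := sp_germ _ _ _ _
  rw [← hs, secO_eq hx1 ht ht.sp_ne (φ := spO x 1) (by rw [map_one]; exact (one_smul _ _).symm), ord_unit isUnit_one]

/-- A module trivial on an open has a rational section without zeros or poles there. -/
theorem hasOrd_of_trivial (hX : Pi1.IsNormalScheme X) {N : X.Modules} (hN : PicF.IsInvertible N) (O : X.Opens)
    (hO : genericPoint X ∈ O) (e : N.restrict O.ι ≅ Coh.structureModule (O : Scheme.{u})) :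
    ∃ D : X → ℤ, HasOrd N D ∧ ∀ x ∈ O, Order.coheight x = 1 → D x = 0 := by
  obtain ⟨s, hs⟩ := H23Para.exists_bijective_smul N O e
  have hg : IsGen N s := isGen_of_bijective hs
  refine ⟨fun x => secO N x (N.presheaf.germ O (genericPoint X) hO s), ⟨_, ?_, fun x _ => rfl⟩,
    fun x hx hx1 => secO_germ_of_isGen hg hx hx1 hO⟩
  have ht := H12Pic.OpenLine.isStalkGen_germ hg hO
  intro h
  exact ht.sp_ne (by rw [sp_germ]; exact h)

theorem hasOrd_congr {N : X.Modules} {D D' : X → ℤ} (h : HasOrd N D)
    (hD : ∀ x, Order.coheight x = 1 → D x = D' x) : HasOrd N D' := by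
  obtain ⟨v, hv, h⟩ := h
  exact ⟨v, hv, fun x hx => (h x hx).trans (hD x hx)⟩

theorem hasOrd_tensor (hX : Pi1.IsNormalScheme X) {F G : X.Modules} (hF : PicF.IsInvertible F)
    (hG : PicF.IsInvertible G) {D D' : X → ℤ} (h : HasOrd F D) (h' : HasOrd G D') :
    HasOrd (CohB1.tensorMod F G) (fun x => D x + D' x) := by
  obtain ⟨v, hv, h⟩ := h
  obtain ⟨w, hw, h'⟩ := h'
  refine ⟨H16Derived.KFlat.Stalk.pair F G (genericPoint X) v w,
    pair_ne_zero (stalkFree_invertible hF) (stalkFree_invertible hG) hv hw, fun x hx => ?_⟩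
  obtain ⟨a, ha⟩ := exists_isStalkGen_of_isRef1 hX F (H12Pic.OpenLine.isRef1_of_isInvertible hF) x hx
  obtain ⟨b, hb⟩ := exists_isStalkGen_of_isRef1 hX G (H12Pic.OpenLine.isRef1_of_isInvertible hG) x hx
  rw [secO_pair (stalkFree_invertible hF) (stalkFree_invertible hG) hx ha hb hv hw, h x hx, h' x hx]

theorem hasOrd_tensorPow (hX : Pi1.IsNormalScheme X) {F : X.Modules} (hF : PicF.IsInvertible F) {D : X → ℤ}
    (h : HasOrd F D) : ∀ n : ℕ, HasOrd (CohB1.tensorPow F n) (fun x => (n : ℤ) * D x)
  | 0 => hasOrd_congr hasOrd_structureModule fun x _ => by simp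
  | n + 1 => hasOrd_congr (hasOrd_tensor hX (H11Ample.isInvertible_tensorPow hF n) hF (hasOrd_tensorPow hX hF h n) h)
      fun x _ => by push_cast; ring

theorem iso_of_hasOrd (hX : Pi1.IsNormalScheme X) {F G : X.Modules} (hF : PicF.IsInvertible F)
    (hG : PicF.IsInvertible G) {D : X → ℤ} (h : HasOrd F D) (h' : HasOrd G D) : Nonempty (F ≅ G) := by
  obtain ⟨v, hv, h⟩ := h
  obtain ⟨w, hw, h'⟩ := h'
  exact nonempty_iso_of_secO_eq hX (H12Pic.OpenLine.isRef1_of_isInvertible hF)
    (H12Pic.OpenLine.isRef1_of_isInvertible hG) hv hw fun x hx => (h x hx).trans (h' x hx).symm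

omit [IsIntegral X] [IsLocallyNoetherian X] in
theorem range_idealStalk_eq (I : X.IdealSheafData) (x : X) :
    LinearMap.range (H29Omega.idealStalk I x) = IntMult.stalkIdeal I x := by
  obtain ⟨V, hV, hxV, -⟩ := exists_isAffineOpen_mem_and_subset (X := X) (x := x) (U := ⊤) trivial
  rw [H29Omega.range_idealStalk I x ⟨V, hV⟩ hxV, stalkIdeal_eq I x ⟨V, hV⟩ hxV]

/-- The rational section `1` of an invertible ideal has minus the order of the local equation. -/
theorem hasOrd_idealMod (hX : Pi1.IsNormalScheme X) (I : X.IdealSheafData) (hI : BlowUp.IsEffCartierIdeal I)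
    (hη : genericPoint X ∉ I.support)
    (hgen : ∀ x : X, x ∈ I.support → Order.coheight x = 1 →
      IntMult.stalkIdeal I x = IsLocalRing.maximalIdeal (X.presheaf.stalk x)) :
    ∃ D : X → ℤ, HasOrd (ClSub.idealMod I) D ∧ (∀ x, x ∉ I.support → D x = 0) ∧
      ∀ x, x ∈ I.support → D x = -1 := by
  classical
  let M := ClSub.idealMod I
  have hM : PicF.IsInvertible M := H29Blow.isInvertible_of_isEffCartierIdeal I hI
  let ι := H29Omega.idealStalk I (genericPoint X)
  have hιs : Function.Surjective ι := by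
    rw [← LinearMap.range_eq_top, range_idealStalk_eq]
    exact (stalkIdeal_eq_top_iff I _).2 hη
  let e := LinearEquiv.ofBijective ι ⟨H29Omega.idealStalk_injective _ _, hιs⟩
  have hv : e.symm 1 ≠ 0 := fun h => one_ne_zero (e.symm.injective (h.trans (map_zero _).symm))
  have key : ∀ (x : X) (a : X.presheaf.stalk x), Order.coheight x = 1 → a ≠ 0 →
      IntMult.stalkIdeal I x = Ideal.span {a} →
      secO M x (e.symm 1) = -Scheme.ord (spO x a : X.functionField) x := by
    intro x a hx ha0 hr
    rw [← range_idealStalk_eq] at hr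
    obtain ⟨t, ht⟩ : a ∈ LinearMap.range (H29Omega.idealStalk I x) := hr ▸ Ideal.mem_span_singleton_self _
    have hspan : Submodule.span (X.presheaf.stalk x) {t} = ⊤ := by
      refine eq_top_iff.mpr fun w _ => ?_
      obtain ⟨c, hc⟩ := Ideal.mem_span_singleton'.mp
        (hr ▸ LinearMap.mem_range_self _ w : H29Omega.idealStalk I x w ∈ Ideal.span {a})
      rw [Submodule.mem_span_singleton]
      exact ⟨c, H29Omega.idealStalk_injective _ _ (by rw [map_smul, ht, smul_eq_mul, hc])⟩
    have ha : spO x a ≠ 0 := (map_ne_zero_iff _ (spO_injective x)).mpr ha0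
    have hsp : ι (sp _ x t) = spO x a := by
      show H29Omega.idealStalk I (genericPoint X) (sp _ x t) = _
      rw [H29Ref.sp_idealStalk, ht]
    have hgen := IsStalkGen.mk' (stalkFree_invertible hM) hspan fun h => ha (by rw [← hsp, h, map_zero])
    let K : Type u := X.functionField
    obtain ⟨φ, hφ⟩ := hgen.exists_smul (e.symm 1)
    rw [secO_eq hx hgen hv (φ := φ) hφ]
    have h1 : (φ : K) * (spO x a : K) = 1 := by
      have h2 := congrArg ι hφ
      rw [map_smul, hsp] at h2
      exact h2.symm.trans (e.apply_symm_apply 1)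
    have haK : (spO x a : K) ≠ 0 := ha
    have hone : Scheme.ord (1 : X.functionField) x = 0 := by
      have h6 := ord_unit (X := X) (x := x) isUnit_one
      rw [map_one] at h6
      exact h6
    have hφ0 : (φ : K) ≠ 0 := fun h => one_ne_zero (h1.symm.trans (by rw [h, zero_mul]))
    have h4 : Scheme.ord ((φ : X.functionField) * (spO x a : X.functionField)) x =
        Scheme.ord (φ : X.functionField) x + Scheme.ord (spO x a : X.functionField) x :=
      Scheme.ord_mul hφ0 haK
    have h3 := congrArg (fun q : X.functionField => Scheme.ord q x) h1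
    have h5 := h4.symm.trans (h3.trans hone)
    omega
  refine ⟨fun x => if x ∈ I.support then -1 else 0, ⟨e.symm 1, hv, fun x hx => ?_⟩,
    fun x h => if_neg h, fun x h => if_pos h⟩
  show secO M x (e.symm 1) = if x ∈ I.support then -1 else 0
  by_cases hxI : x ∈ I.support
  · rw [if_pos hxI]
    haveI := isDiscreteValuationRing_stalk hX x (by rw [ringKrullDim_stalk_eq_coheight, hx]; rfl)
    haveI : Ring.KrullDimLE 1 (X.presheaf.stalk x) := krullDimLE_of_coheight_le hx.le
    obtain ⟨ϖ, hϖ⟩ := IsDiscreteValuationRing.exists_irreducible (X.presheaf.stalk x)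
    rw [key x ϖ hx hϖ.ne_zero ((hgen x hxI hx).trans hϖ.maximalIdeal_eq)]
    congr 1
    rw [Scheme.ord_eq_iff hx ((map_ne_zero_iff _ (spO_injective x)).mpr hϖ.ne_zero)]
    exact Ring.ordFrac_irreducible hϖ
  · rw [if_neg hxI, key x 1 hx one_ne_zero (((stalkIdeal_eq_top_iff I x).2 hxI).trans Ideal.span_singleton_one.symm),
      ord_unit isUnit_one, neg_zero]

end Groth.Agent.H11PicBlow
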