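import Groth.Agent.H11PicBlow.Main
import Groth.Agent.H28Vert.NoIsolated
import Groth.Agent.H17.Image

/-!
# The exceptional divisor over a closed point
-/

set_option autoImplicit false
set_option linter.style.haveILetI false
set_option linter.unusedSectionVars false

noncomputable section

universe u

open CategoryTheory CategoryTheory.Limits AlgebraicGeometry Opposite TopologicalSpace
open Groth.Agent.H10Coh Groth.Agent.H29Ref

namespace Groth.Agent.H11PicBlow

section

variable {X' X Y : Scheme.{u}} {π : X' ⟶ X} (i : Y ⟶ X) [IsClosedImmersion i] [IsIntegral Y] [IsLocallyNoetherian X]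

/-- A point of codimension at least two with regular local ring: the exceptional divisor is a positive
dimensional projective space over a domain, its conormal sheaf is `O(1)`. -/
theorem exists_chart_point (hreg : ∀ x : X, IsRegularLocalRing (X.presheaf.stalk x))
    (hYreg : ∀ y : Y, IsRegularLocalRing (Y.presheaf.stalk y)) (hπ : BlowUp.IsBlowUp π i.ker)
    (hone : ∀ y y' : Y, y = y')
    (y : Y) (h2 : (2 : WithBot ℕ∞) ≤ ringKrullDim (X.presheaf.stalk (i y))) :
    ∃ (n : ℕ) (_ : n ≠ 0) (R : Type u) (_ : CommRing R) (_ : IsDomain R)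
      (c : CohB1.ProjSpace n R ⟶ (BlowUp.exceptional π i.ker).subscheme) (_ : IsIso c),
      Nonempty ((Scheme.Modules.pullback c).obj ((Scheme.Modules.pullback (BlowUp.exceptional π i.ker).subschemeι).obj
        (ClSub.idealMod (BlowUp.exceptional π i.ker))) ≅ Twist.twistProjSpace n R 1) := by
  classical
  haveI : IsLocallyNoetherian Y := LocallyOfFiniteType.isLocallyNoetherian i
  let E := BlowUp.exceptional π i.ker
  obtain ⟨U, hyU, -, rs, hseq, hker⟩ := (S8855.result i hreg hYreg).2 y
  haveI : IsNoetherianRing (X.presheaf.stalk (i y)) := (hreg _).toIsNoetherian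
  have hmax : IsLocalRing.maximalIdeal (X.presheaf.stalk (i y)) =
      Ideal.map (X.presheaf.germ U.1 (i y) hyU).hom (Ideal.ofList rs) := by
    have h : IntMult.stalkIdeal i.ker (i y) = IsLocalRing.maximalIdeal (X.presheaf.stalk (i y)) := by
      refine le_antisymm (IsLocalRing.le_maximalIdeal fun h => (stalkIdeal_eq_top_iff _ _).1 h
        (i.range_subset_ker_support ⟨y, rfl⟩)) ?_
      obtain ⟨d, hd⟩ : i y ∈ Set.range i.ker.subschemeι := by
        rw [Scheme.IdealSheafData.range_subschemeι]; exact i.range_subset_ker_support ⟨y, rfl⟩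
      haveI : Nonempty i.ker.subscheme := ⟨i.toImage y⟩
      have hint : IsIntegral i.ker.subscheme :=
        isIntegral_of_isOpenImmersion (inv i.toImage)
      have hd' : d = genericPoint i.ker.subscheme := by
        have hs : Subsingleton i.ker.subscheme := ⟨fun a b => by
          have ha := congrArg i.toImage (hone ((inv i.toImage) a) ((inv i.toImage) b))
          have e := fun z => congrArg (fun q : i.ker.subscheme ⟶ i.ker.subscheme => q z) (IsIso.inv_hom_id i.toImage)
          exact (e a).symm.trans (ha.trans (e b))⟩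
        exact Subsingleton.elim _ _
      rw [← hd, hd', stalkIdeal_gen hint]
    rw [← h, stalkIdeal_eq i.ker (i y) U hyU, Scheme.Hom.ker_apply, hker]
  have hlen : 2 ≤ rs.length := by
    by_contra hlt
    have hsp : (IsLocalRing.maximalIdeal (X.presheaf.stalk (i y))).spanFinrank ≤ rs.length := by
      rw [hmax, Ideal.map_ofList]
      refine le_trans (Submodule.spanFinrank_span_le_ncard_of_finite (List.finite_toSet _)) ?_
      refine le_trans ?_ (List.length_map (f := X.presheaf.germ U.1 (i y) hyU) (as := rs)).le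
      rw [show {x | x ∈ rs.map (X.presheaf.germ U.1 (i y) hyU)} =
        ((rs.map (X.presheaf.germ U.1 (i y) hyU)).toFinset : Set (X.presheaf.stalk (i y))) by ext; simp,
        Set.ncard_coe_finset]
      exact List.toFinset_card_le _
    have := h2.trans (ringKrullDim_le_spanFinrank_maximalIdeal (X.presheaf.stalk (i y)))
    have : (2 : ℕ) ≤ (IsLocalRing.maximalIdeal (X.presheaf.stalk (i y))).spanFinrank := by exact_mod_cast this
    omega
  obtain ⟨n, hn⟩ := Nat.exists_eq_succ_of_ne_zero (show rs.length ≠ 0 by omega)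
  let g : Fin (n + 1) → Γ(X, U.1) := fun m => rs.get (Fin.cast hn.symm m)
  have hofFn : List.ofFn g = rs := by
    refine List.ext_get (by simp [hn]) fun m h₁ h₂ => ?_
    simp only [List.get_eq_getElem, List.getElem_ofFn, g]
    rfl
  have hq : CAlgX.IsQuasiRegular g := H06QR.Regular.isQuasiRegular_of_isWeaklyRegular g (by
    rw [hofFn]; exact hseq.toIsWeaklyRegular)
  have hspan : i.ker.ideal U = Ideal.span (Set.range g) := by
    rw [Scheme.Hom.ker_apply, hker, Ideal.ofList]
    congr 1
    ext v
    constructor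
    · intro hv
      obtain ⟨m, hm⟩ := List.get_of_mem hv
      exact ⟨Fin.cast hn m, by simpa [g] using hm⟩
    · rintro ⟨m, rfl⟩
      exact List.get_mem rs _
  haveI : IsAffine U.1.toScheme := U.2
  have hb' := H11Strict.isBlowUp_restrict_opens hπ U.1
  let φ : Γ(X, U.1) →+* Γ(U.1.toScheme, ⊤) := (U.1.ι.appLE U.1 ⊤ U.1.ι_preimage_self.ge).hom
  have hφ : Function.Bijective φ := by
    haveI : IsIso (U.1.ι.app U.1) := Scheme.Hom.isIso_app _ _ (by rw [Scheme.Opens.opensRange_ι])
    haveI : IsIso (U.1.ι.appLE U.1 ⊤ U.1.ι_preimage_self.ge) := by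
      rw [Scheme.Hom.appLE, show homOfLE U.1.ι_preimage_self.ge = eqToHom U.1.ι_preimage_self.symm from
        Subsingleton.elim _ _]
      infer_instance
    exact ConcreteCategory.bijective_of_isIso _
  obtain ⟨e, ⟨ψ⟩⟩ := H11Blow.exists_iso_exceptional hb' (fun m => φ (g m))
    (H11Blow.ideal_comap_ι U.2 g hspan) (H11Blow.isQuasiRegular_map φ hφ hq)
  obtain ⟨c, hc, hr, hψ⟩ := H11Blow.exists_chart_of_comap E hπ.1 (π ⁻¹ᵁ U.1).ι _
    (H11Blow.exceptional_restrict π i.ker U.1) hb'.1 e ψ
  rw [Scheme.Opens.opensRange_ι] at hr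
  haveI : Nonempty (i ⁻¹ᵁ U.1).toScheme := ⟨⟨y, hyU⟩⟩
  haveI : ((i.ker.comap U.1.ι).ideal ⟨⊤, isAffineOpen_top _⟩).IsPrime := by
    rw [H11Blow.ideal_comap_ι U.2 g hspan, Set.range_comp' φ g, ← Ideal.map_span, ← hspan, Scheme.Hom.ker_apply]
    haveI : IsDomain Γ(Y, i ⁻¹ᵁ U.1) := inferInstance
    haveI : (RingHom.ker (i.app U.1).hom).IsPrime := RingHom.ker_isPrime _
    refine Ideal.map_isPrime_of_surjective hφ.2 ?_
    rw [(RingHom.injective_iff_ker_eq_bot φ).1 hφ.1]
    exact bot_le
  have htop : c.opensRange = ⊤ := by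
    rw [hr, eq_top_iff]
    intro e' _
    have he : π (E.subschemeι e') ∈ i.ker.support := by
      have : E.subschemeι e' ∈ (i.ker.comap π).support := by
        show E.subschemeι e' ∈ (E.support : Set X')
        rw [← Scheme.IdealSheafData.range_subschemeι]; exact ⟨e', rfl⟩
      rw [Scheme.IdealSheafData.support_comap] at this
      exact this
    rw [← SetLike.mem_coe, Scheme.Hom.support_ker, (Scheme.Hom.isClosedEmbedding i).isClosed_range.closure_eq] at he
    obtain ⟨y', hy'⟩ := he
    show π (E.subschemeι e') ∈ U.1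
    rw [← hy', hone y' y]
    exact hyU
  haveI := hc
  haveI : Surjective c := ⟨fun z => by
    have hz : z ∈ c.opensRange := htop ▸ trivial
    exact hz⟩
  exact ⟨n, by omega, _, inferInstance, Ideal.Quotient.isDomain _, c, (isIso_iff_isOpenImmersion_and_surjective c).2 ⟨inferInstance, inferInstance⟩, hψ⟩

/-- Only the trivial power of the conormal sheaf of the exceptional divisor is trivial. -/
theorem pow_restrict_eq_zero (hπ : BlowUp.IsBlowUp π i.ker) {N : ℕ} (hN : N ≠ 0) (R : Type u) [CommRing R]
    [IsDomain R] (c : CohB1.ProjSpace N R ⟶ (BlowUp.exceptional π i.ker).subscheme)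
    (hc : Nonempty ((Scheme.Modules.pullback c).obj ((Scheme.Modules.pullback (BlowUp.exceptional π i.ker).subschemeι).obj
      (ClSub.idealMod (BlowUp.exceptional π i.ker))) ≅ Twist.twistProjSpace N R 1)) {n : ℕ}
    (e : (Scheme.Modules.pullback (BlowUp.exceptional π i.ker).subschemeι).obj
      (CohB1.tensorPow (ClSub.idealMod (BlowUp.exceptional π i.ker)) n) ≅
      Coh.structureModule (BlowUp.exceptional π i.ker).subscheme) : n = 0 := by
  obtain ⟨p⟩ := H11Blow.pull_tensorPow hπ n R c hc
  obtain ⟨u⟩ := H11Ample.nonempty_pullback_structureModule_iso c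
  have h : LeadPic.PnRel.OC N R (Multiplicative.ofAdd (n : ℤ)) = LeadPic.PnRel.OC N R 1 := by
    rw [map_one]
    exact Units.ext (H25Theta.cls_eq.2 ⟨p.symm ≪≫ (Scheme.Modules.pullback c).mapIso e ≪≫ u⟩)
  have := LeadPic.PnRel.OC_injective hN R h
  have h' : (n : ℤ) = 0 := Multiplicative.ofAdd.injective (this.trans ofAdd_zero.symm)
  exact_mod_cast h'

end

end Groth.Agent.H11PicBlow
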