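import Groth.Agent.H11PicBlow.Point
import Groth.Agent.H11Blow.ExcPi
import Groth.Agent.H17.Reduced

/-!
# The exceptional divisor of the blow-up of a closed point is a projective space over its residue field
-/

set_option autoImplicit false
set_option linter.style.haveILetI false
set_option linter.unusedSectionVars false
set_option backward.isDefEq.respectTransparency false

noncomputable section

universe u

open CategoryTheory CategoryTheory.Limits AlgebraicGeometry Opposite TopologicalSpace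
open Groth.Agent.H10Coh Groth.Agent.H29Ref

namespace Groth.Agent.H11PicBlow

variable {X' X : Scheme.{u}} {π : X' ⟶ X}

/-- The evaluation at a point of an affine open. -/
abbrev evalAt {U : X.Opens} {y : X} (hy : y ∈ U) : Γ(X, U) →+* X.residueField y :=
  (X.presheaf.germ U y hy ≫ X.residue y).hom

theorem ker_evalAt {U : X.affineOpens} {y : X} (hy : IsClosed ({y} : Set X)) (hyU : y ∈ U.1) :
    RingHom.ker (evalAt hyU) = (Scheme.IdealSheafData.vanishingIdeal ⟨{y}, hy⟩).ideal U := by
  ext a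
  rw [Scheme.IdealSheafData.vanishingIdeal_ideal, PrimeSpectrum.mem_vanishingIdeal, RingHom.mem_ker]
  show X.evaluation U.1 y hyU a = 0 ↔ _
  rw [Scheme.evaluation_eq_zero_iff_notMem_basicOpen]
  have hmem : ∀ p, U.2.fromSpec p ∈ X.basicOpen a ↔ a ∉ p.asIdeal := fun p => by
    show p ∈ U.2.fromSpec ⁻¹ᵁ X.basicOpen a ↔ _
    rw [U.2.fromSpec_preimage_basicOpen]
    rfl
  constructor
  · intro h p hp
    by_contra hap
    exact h ((Set.mem_singleton_iff.1 hp) ▸ (hmem p).2 hap)
  · intro h hb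
    have hy' : U.2.fromSpec (U.2.primeIdealOf ⟨y, hyU⟩) = y := U.2.fromSpec_primeIdealOf ⟨y, hyU⟩
    exact (hmem _).1 (hy'.symm ▸ hb) (h _ (Set.mem_singleton_iff.2 hy'))

theorem evalAt_surjective {U : X.affineOpens} {y : X} (hy : IsClosed ({y} : Set X)) (hyU : y ∈ U.1) :
    Function.Surjective (evalAt hyU) := by
  intro z
  obtain ⟨s, rfl⟩ := IsLocalRing.residue_surjective z
  letI := TopCat.Presheaf.algebra_section_stalk X.presheaf (⟨y, hyU⟩ : U.1)
  haveI := U.2.isLocalization_stalk ⟨y, hyU⟩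
  obtain ⟨⟨a, t⟩, hs⟩ := IsLocalization.surj (U.2.primeIdealOf ⟨y, hyU⟩).asIdeal.primeCompl s
  haveI : (U.2.primeIdealOf ⟨y, hyU⟩).asIdeal.IsMaximal := by
    rw [← PrimeSpectrum.isClosed_singleton_iff_isMaximal]
    have hy' : U.2.fromSpec (U.2.primeIdealOf ⟨y, hyU⟩) = y := U.2.fromSpec_primeIdealOf ⟨y, hyU⟩
    have := hy.preimage U.2.fromSpec.continuous
    rw [show ({U.2.primeIdealOf ⟨y, hyU⟩} : Set _) = U.2.fromSpec ⁻¹' {y} from Set.ext fun p => ?_]
    · exact this

    simp only [Set.mem_singleton_iff, Set.mem_preimage]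
    exact ⟨fun h => h ▸ hy', fun h => (U.2.fromSpec.isOpenEmbedding.injective (h.trans hy'.symm))⟩
  obtain ⟨t', r, hr, htr⟩ := Ideal.IsMaximal.exists_inv (inferInstance : (U.2.primeIdealOf ⟨y, hyU⟩).asIdeal.IsMaximal) t.2
  have hzero : evalAt hyU r = 0 := by
    show IsLocalRing.residue (X.presheaf.stalk y) (algebraMap Γ(X, U.1) (X.presheaf.stalk y) r) = (0 : IsLocalRing.ResidueField _)
    exact (IsLocalRing.residue_eq_zero_iff _).2
      ((IsLocalization.AtPrime.to_map_mem_maximal_iff (X.presheaf.stalk y) _ r).2 hr)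
  have h1 : evalAt hyU t' * evalAt hyU t.1 = 1 := by
    have := congrArg (evalAt hyU) htr
    rwa [map_add, map_mul, map_one, hzero, add_zero] at this
  refine ⟨a * t', ?_⟩
  rw [map_mul]
  have hs' : X.residue y s * evalAt hyU t.1 = evalAt hyU a := by
    have := congrArg (X.residue y) hs
    rwa [map_mul] at this
  rw [← hs', mul_assoc, mul_comm (evalAt hyU t.1), h1, mul_one]
  rfl

theorem ker_evalAt_eq_prime {U : X.affineOpens} {y : X} (hyU : y ∈ U.1) :
    RingHom.ker (evalAt hyU) = (U.2.primeIdealOf ⟨y, hyU⟩).asIdeal := by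
  letI := TopCat.Presheaf.algebra_section_stalk X.presheaf (⟨y, hyU⟩ : U.1)
  haveI := U.2.isLocalization_stalk ⟨y, hyU⟩
  ext r
  show IsLocalRing.residue (X.presheaf.stalk y) (algebraMap Γ(X, U.1) (X.presheaf.stalk y) r) = (0 : IsLocalRing.ResidueField _) ↔ _
  exact (IsLocalRing.residue_eq_zero_iff _).trans (IsLocalization.AtPrime.to_map_mem_maximal_iff (X.presheaf.stalk y) _ r)

/-- A regular sequence cutting out a point has as many members as the dimension of its local ring. -/
theorem length_eq_dim [IsLocallyNoetherian X] {U : X.affineOpens} {y : X} (hyU : y ∈ U.1) (rs : List Γ(X, U.1))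
    (hseq : RingTheory.Sequence.IsRegular Γ(X, U.1) rs)
    (h : Ideal.ofList rs = RingHom.ker (evalAt hyU)) :
    (rs.length : WithBot ℕ∞) = ringKrullDim (X.presheaf.stalk y) := by
  letI := TopCat.Presheaf.algebra_section_stalk X.presheaf (⟨y, hyU⟩ : U.1)
  haveI := U.2.isLocalization_stalk ⟨y, hyU⟩
  haveI : IsNoetherianRing Γ(X, U.1) := IsLocallyNoetherian.component_noetherian U
  haveI : IsNoetherianRing (X.presheaf.stalk y) :=
    IsLocalization.isNoetherianRing (U.2.primeIdealOf ⟨y, hyU⟩).asIdeal.primeCompl _ inferInstance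
  let O := X.presheaf.stalk y
  have hmax : Ideal.ofList (rs.map (algebraMap Γ(X, U.1) O)) = IsLocalRing.maximalIdeal O := by
    rw [← Ideal.map_ofList, h, ker_evalAt_eq_prime]
    exact IsLocalization.AtPrime.map_eq_maximalIdeal _ O
  have hreg : RingTheory.Sequence.IsRegular O (rs.map (algebraMap Γ(X, U.1) O)) := by
    refine ⟨hseq.toIsWeaklyRegular.of_isLocalization O (U.2.primeIdealOf ⟨y, hyU⟩).asIdeal.primeCompl, ?_⟩
    intro htop
    rw [hmax, Ideal.smul_eq_mul, Ideal.mul_top] at htop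
    exact (IsLocalRing.maximalIdeal.isMaximal O).ne_top htop.symm
  have h1 := ringKrullDim_add_length_eq_ringKrullDim_of_isRegular _ hreg
  rw [hmax, List.length_map] at h1
  rw [← h1]
  haveI : IsField (O ⧸ IsLocalRing.maximalIdeal O) :=
    (Ideal.Quotient.maximal_ideal_iff_isField_quotient _).1 (IsLocalRing.maximalIdeal.isMaximal O)
  rw [ringKrullDim_eq_zero_of_isField this, zero_add]

/-- The exceptional divisor over a closed point of a regular scheme. -/
theorem exists_chart_residueField [IsLocallyNoetherian X] (hreg : ∀ x : X, IsRegularLocalRing (X.presheaf.stalk x))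
    (y : X) (hy : IsClosed ({y} : Set X)) (hπ : BlowUp.IsBlowUp π (Scheme.IdealSheafData.vanishingIdeal ⟨{y}, hy⟩))
    (hne : ∀ U : X.Opens, y ∈ U → ¬ (U : Set X) ⊆ {y}) :
    ∃ (n : ℕ) (_ : ((n + 1 : ℕ) : WithBot ℕ∞) = ringKrullDim (X.presheaf.stalk y))
      (c : CohB1.ProjSpace n (X.residueField y) ⟶
        (BlowUp.exceptional π (Scheme.IdealSheafData.vanishingIdeal ⟨{y}, hy⟩)).subscheme) (_ : IsIso c),
      c ≫ (BlowUp.exceptional π (Scheme.IdealSheafData.vanishingIdeal ⟨{y}, hy⟩)).subschemeι ≫ π =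
          CohB1.ProjSpace.toSpec n (X.residueField y) ≫ X.fromSpecResidueField y ∧
      Nonempty ((Scheme.Modules.pullback c).obj ((Scheme.Modules.pullback
          (BlowUp.exceptional π (Scheme.IdealSheafData.vanishingIdeal ⟨{y}, hy⟩)).subschemeι).obj
        (ClSub.idealMod (BlowUp.exceptional π (Scheme.IdealSheafData.vanishingIdeal ⟨{y}, hy⟩)))) ≅
        Twist.twistProjSpace n (X.residueField y) 1) := by
  classical
  let 𝓘 := Scheme.IdealSheafData.vanishingIdeal (X := X) ⟨{y}, hy⟩
  let i := 𝓘.subschemeι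
  have hker : i.ker = 𝓘 := Scheme.IdealSheafData.ker_subschemeι _
  let P := 𝓘.subscheme
  have hrange : Set.range i = {y} := by
    rw [Scheme.IdealSheafData.range_subschemeι, Scheme.IdealSheafData.coe_support_vanishingIdeal]
    rfl
  obtain ⟨p₀, hp₀⟩ : y ∈ Set.range i := hrange.symm.subset rfl
  haveI : Subsingleton P := ⟨fun a b => (Scheme.Hom.isClosedEmbedding i).injective
    ((hrange.subset ⟨a, rfl⟩).trans (hrange.subset ⟨b, rfl⟩).symm)⟩
  haveI : IsReduced P := H17.isReduced_vanishingIdeal_subscheme _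
  haveI : Nonempty P := ⟨p₀⟩
  haveI : IrreducibleSpace P :=
    { isPreirreducible_univ := Set.subsingleton_univ.isPreirreducible
      toNonempty := inferInstance }
  haveI : IsIntegral P := isIntegral_of_irreducibleSpace_of_isReduced P
  have hPreg : ∀ p : P, IsRegularLocalRing (P.presheaf.stalk p) := fun p => by
    rw [Subsingleton.elim p (genericPoint P)]
    exact inferInstanceAs (IsRegularLocalRing P.functionField)
  obtain ⟨U, hpU, -, rs, hseq, hk⟩ := (S8855.result i hreg hPreg).2 p₀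
  rw [hp₀] at hpU
  have hlen : rs.length ≠ 0 := by
    intro h0
    rw [List.length_eq_zero_iff] at h0
    subst h0
    refine hne U.1 hpU fun x hx => ?_
    rw [← hrange]
    have h : x ∈ i.ker.support := by
      rw [Scheme.IdealSheafData.mem_support_iff_of_mem hx, Scheme.Hom.ker_apply, hk]
      simp
    rw [← SetLike.mem_coe, Scheme.Hom.support_ker, (Scheme.Hom.isClosedEmbedding i).isClosed_range.closure_eq] at h
    exact h
  obtain ⟨n, hn⟩ := Nat.exists_eq_succ_of_ne_zero hlen
  let g : Fin (n + 1) → Γ(X, U.1) := fun m => rs.get (Fin.cast hn.symm m)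
  have hofFn : List.ofFn g = rs := by
    refine List.ext_get (by simp [hn]) fun m h₁ h₂ => ?_
    simp only [List.get_eq_getElem, List.getElem_ofFn, g]
    rfl
  have hq : CAlgX.IsQuasiRegular g := H06QR.Regular.isQuasiRegular_of_isWeaklyRegular g (by
    rw [hofFn]; exact hseq.toIsWeaklyRegular)
  have hspan : 𝓘.ideal U = Ideal.span (Set.range g) := by
    rw [← hker, Scheme.Hom.ker_apply, hk, Ideal.ofList]
    congr 1
    ext v
    constructor
    · intro hv
      obtain ⟨m, hm⟩ := List.get_of_mem hv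
      exact ⟨Fin.cast hn m, by simpa [g] using hm⟩
    · rintro ⟨m, rfl⟩
      exact List.get_mem rs _
  haveI : IsAffine U.1.toScheme := U.2
  have hb' := H11Strict.isBlowUp_restrict_opens hπ U.1
  let φ : Γ(X, U.1) →+* Γ(U.1.toScheme, ⊤) := (U.1.ι.appLE U.1 ⊤ U.1.ι_preimage_self.ge).hom
  have hφ : Function.Bijective φ := by
    haveI : IsIso (U.1.ι.app U.1) := Scheme.Hom.isIso_app _ _ (by rw [Scheme.Opens.opensRange_ι])
    haveI : IsIso (U.1.ι.appLE U.1 ⊤ U.1.ι_preimage_self.ge) := by
      rw [Scheme.Hom.appLE, show homOfLE U.1.ι_preimage_self.ge = eqToHom U.1.ι_preimage_self.symm from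
        Subsingleton.elim _ _]
      infer_instance
    exact ConcreteCategory.bijective_of_isIso _
  let φe := RingEquiv.ofBijective φ hφ
  let p : Γ(U.1.toScheme, ⊤) →+* X.residueField y := (evalAt hpU).comp φe.symm.toRingHom
  have hp : Function.Surjective p := (evalAt_surjective hy hpU).comp φe.symm.surjective
  have hI' := H11Blow.ideal_comap_ι U.2 g hspan
  have hpk : RingHom.ker p = (𝓘.comap U.1.ι).ideal ⟨⊤, isAffineOpen_top _⟩ := by
    rw [hI', Set.range_comp' φ g, ← Ideal.map_span, ← hspan, ← ker_evalAt hy hpU,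
      ← RingHom.comap_ker]
    exact (Ideal.map_comap_of_equiv φe).symm
  obtain ⟨e, he, ⟨ψ⟩⟩ := H11Blow.exists_iso_exceptional_of_surjective hb' (fun m => φ (g m))
    hI' (H11Blow.isQuasiRegular_map φ hφ hq) p hp hpk
  obtain ⟨c, hc, hr, hcE, hψ⟩ := H11Blow.exists_chart_of_comap_over _ hπ.1 (π ⁻¹ᵁ U.1).ι _
    (H11Blow.exceptional_restrict π 𝓘 U.1) hb'.1 e ψ
  rw [Scheme.Opens.opensRange_ι] at hr
  haveI := hc
  haveI : Surjective c := ⟨fun z => by
    have hz : z ∈ c.opensRange := by
      rw [hr]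
      show π ((BlowUp.exceptional π 𝓘).subschemeι z) ∈ U.1
      have h : (BlowUp.exceptional π 𝓘).subschemeι z ∈ (𝓘.comap π).support := by
        show _ ∈ ((BlowUp.exceptional π 𝓘).support : Set X')
        rw [← Scheme.IdealSheafData.range_subschemeι]; exact ⟨z, rfl⟩
      rw [Scheme.IdealSheafData.support_comap] at h
      change π _ ∈ (𝓘.support : Set X) at h
      rw [Scheme.IdealSheafData.coe_support_vanishingIdeal] at h
      rw [show π _ = y from h]
      exact hpU
    exact hz⟩
  refine ⟨n, ?_, c, (isIso_iff_isOpenImmersion_and_surjective c).2 ⟨inferInstance, inferInstance⟩, ?_, hψ⟩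
  · rw [← Nat.succ_eq_add_one, ← hn]
    refine length_eq_dim hpU rs hseq ?_
    rw [ker_evalAt hy hpU, show (Scheme.IdealSheafData.vanishingIdeal ⟨{y}, hy⟩).ideal U = i.ker.ideal U by rw [hker],
      Scheme.Hom.ker_apply, hk]
  rw [reassoc_of% hcE, show (π ⁻¹ᵁ U.1).ι ≫ π = π ∣_ U.1 ≫ U.1.ι from (morphismRestrict_ι π U.1).symm,
    reassoc_of% he]
  congr 1
  rw [Scheme.fromSpecResidueField, ← U.2.fromSpecStalk_eq_fromSpecStalk hpU, IsAffineOpen.fromSpecStalk,
    ← Spec.map_comp_assoc, ← U.2.isoSpec_inv_ι]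
  have h1 : U.2.isoSpec.inv = Spec.map U.1.topIso.hom ≫ U.1.toScheme.isoSpec.inv := by
    simp [IsAffineOpen.isoSpec]
  have h2 : U.1.topIso.inv = CommRingCat.ofHom φ := by
    show _ = U.1.ι.appLE U.1 ⊤ U.1.ι_preimage_self.ge
    rw [Scheme.Opens.ι_appLE, Scheme.Opens.topIso_inv]
    exact congrArg X.presheaf.map (Subsingleton.elim _ _)
  rw [h1, Category.assoc, ← Spec.map_comp_assoc]
  congr 2
  apply CommRingCat.hom_ext
  refine RingHom.ext fun z => ?_
  show evalAt hpU (φe.symm z) = evalAt hpU (U.1.topIso.hom z)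
  refine congrArg _ (φe.injective ?_)
  rw [φe.apply_symm_apply]
  show z = φ (U.1.topIso.hom z)
  have h3 := ConcreteCategory.congr_hom U.1.topIso.hom_inv_id z
  rw [h2] at h3
  exact h3.symm

end Groth.Agent.H11PicBlow
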