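import Groth.Agent.H11PicBlow.PointChart
import Groth.Agent.H28Int.Push
import Groth.Agent.H22Alg.IntPush
import Groth.Agent.H28Int.Core
import Groth.Agent.H28Pinch.DirectImageTrivial
import Groth.Agent.H28Vert.ExcConverse
import Groth.Agent.H8Props.FieldDimFormula
import Groth.Agent.S4466

/-!
# Euler characteristics on the blow-up of a closed point of a regular proper scheme
-/

set_option autoImplicit false
set_option linter.style.haveILetI false
set_option linter.unusedSectionVars false

noncomputable section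

universe u

open CategoryTheory CategoryTheory.Limits AlgebraicGeometry Opposite TopologicalSpace
open Groth.Agent.H10Coh

namespace Groth.Agent.H11PicBlow

attribute [local instance 10000] hasSheafifyAb hasWeakSheafifyAb hasExtAb enoughInjAb
attribute [local instance] enoughInjMod

variable (k : Type u) [Field k]

/-- Cohomology of a module without higher direct images over a basis. -/
theorem finrank_HH_push_of_basis {W X : Scheme.{u}} [W.Over (Spec (CommRingCat.of k))]
    [X.Over (Spec (CommRingCat.of k))] (h : W ⟶ X)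
    (hh : h ≫ (X ↘ Spec (CommRingCat.of k)) = W ↘ Spec (CommRingCat.of k))
    (G : W.Modules) (B : Set X.Opens) (hB : Opens.IsBasis B)
    (hac : ∀ U ∈ B, ∀ p, 0 < p → Subsingleton (HnM G p (h ⁻¹ᵁ U))) (n : ℕ) :
    Module.finrank k (Coh.HH X ((Coh.push h).obj G) n) = Module.finrank k (Coh.HH W G n) := by
  have hepi : ∀ m, Epi ((CohTop.push h.base).map ((MRes.inj G).toF.p m)) := fun m =>
    (MRes.inj G).toF.epi_push_p h.base B hB (fun U hU j => hac U hU (j + 1) j.succ_pos) m
  let ψX : k →+* Γ(X, ⊤) := globA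
  let ψW : k →+* Γ(W, ⊤) := globA
  have hψ : ψW = h.appTop.hom.comp ψX := by
    show toΓ (W ↘ Spec (CommRingCat.of k)) = h.appTop.hom.comp (toΓ (X ↘ Spec (CommRingCat.of k)))
    rw [← toΓ_comp, hh]
  let P := (Coh.push h).obj G
  letI := (actM ψX P).mod n ⊤
  letI := (actM ψW G).mod n ⊤
  let e₁ : Coh.HH X P n ≃ₗ[k] HnM P n ⊤ := { HHEquiv P n with map_smul' := HHEquiv_smul' P n }
  let e₂ : Coh.HH W G n ≃ₗ[k] HnM G n ⊤ := { HHEquiv G n with map_smul' := HHEquiv_smul' G n }
  let e' : HnM P n ⊤ ≃+ HnM G n ⊤ := (MRes.inj G).toF.pushEquiv h.base hepi n ⊤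
  let e₀ : HnM P n ⊤ ≃ₗ[k] HnM G n ⊤ :=
    { e' with
      map_smul' := fun a x => by
        change e' (postH (smulSh P (ψX a)) n ⊤ x) = postH (smulSh G (ψW a)) n ⊤ (e' x)
        rw [smulSh_push h G (ψX a), hψ]
        exact FRes.pushEquiv_natural h.base (mResSmul (MRes.inj G) (h.appTop (ψX a))) hepi hepi n ⊤ x }
  exact (e₁.trans (e₀.trans e₂.symm)).finrank_eq

variable {X X' : Scheme.{u}} [X.Over (Spec (CommRingCat.of k))] [X'.Over (Spec (CommRingCat.of k))]
  {π : X' ⟶ X} {x : X} {hx : IsClosed ({x} : Set X)}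

/-- The centre is regularly immersed in the codimension of the point. -/
theorem isRegularImmersionOfCodim_point [IsLocallyNoetherian X] (hreg : ∀ y : X, IsRegularLocalRing (X.presheaf.stalk y))
    (hx : IsClosed ({x} : Set X)) {d : ℕ} (hd : (d : WithBot ℕ∞) = ringKrullDim (X.presheaf.stalk x)) :
    RegImm.IsRegularImmersionOfCodim .regular d (Scheme.IdealSheafData.vanishingIdeal ⟨{x}, hx⟩).subschemeι := by
  let i := (Scheme.IdealSheafData.vanishingIdeal (X := X) ⟨{x}, hx⟩).subschemeι
  let P := (Scheme.IdealSheafData.vanishingIdeal (X := X) ⟨{x}, hx⟩).subscheme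
  have hrange : Set.range i = {x} := by
    rw [Scheme.IdealSheafData.range_subschemeι, Scheme.IdealSheafData.coe_support_vanishingIdeal]
    rfl
  obtain ⟨p₀, hp₀⟩ : x ∈ Set.range i := hrange.symm.subset rfl
  haveI : Subsingleton P := ⟨fun a b => (Scheme.Hom.isClosedEmbedding i).injective
    ((hrange.subset ⟨a, rfl⟩).trans (hrange.subset ⟨b, rfl⟩).symm)⟩
  haveI : IsReduced P := H17.isReduced_vanishingIdeal_subscheme _
  haveI : Nonempty P := ⟨p₀⟩
  haveI : IrreducibleSpace P :=
    { isPreirreducible_univ := Set.subsingleton_univ.isPreirreducible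
      toNonempty := inferInstance }
  haveI : IsIntegral P := isIntegral_of_irreducibleSpace_of_isReduced P
  have hPreg : ∀ p : P, IsRegularLocalRing (P.presheaf.stalk p) := fun p => by
    rw [Subsingleton.elim p (genericPoint P)]
    exact inferInstanceAs (IsRegularLocalRing P.functionField)
  refine ⟨inferInstance, fun z => ?_⟩
  obtain ⟨U, hzU, hci, rs, hseq, hk⟩ := (S8855.result i hreg hPreg).2 z
  refine ⟨U, hzU, hci, rs, ?_, hseq, hk⟩
  have hxU : x ∈ U.1 := (hrange.subset ⟨z, rfl⟩ : i z = x) ▸ hzU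
  have h := length_eq_dim hxU rs hseq (by
    rw [← hk, ← Scheme.Hom.ker_apply, Scheme.IdealSheafData.ker_subschemeι, ker_evalAt hx hxU])
  rw [← hd] at h
  exact_mod_cast h

omit [X'.Over (Spec (CommRingCat.of k))] in
theorem fromSpecResidueField_hom (y : X) :
    X.fromSpecResidueField y ≫ (X ↘ Spec (CommRingCat.of k)) =
      Spec.map (CommRingCat.ofHom (Curv2.resMap k X y)) := by
  rw [Scheme.fromSpecResidueField, Category.assoc]
  have h1 : (X ↘ Spec (CommRingCat.of k)) = X.toSpecΓ ≫
      Spec.map ((Scheme.ΓSpecIso (CommRingCat.of k)).inv ≫ (X ↘ Spec (CommRingCat.of k)).appTop) := by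
    rw [Spec.map_comp, ← Scheme.toSpecΓ_naturality_assoc]
    simp
  rw [h1, Scheme.fromSpecStalk_toSpecΓ_assoc, ← Spec.map_comp, ← Spec.map_comp]
  rfl

variable [IsProper (X ↘ Spec (CommRingCat.of k))]

include k in
/-- Pulling back to the blow-up of a closed point does not change the Euler characteristic of an
invertible module. -/
theorem euler_pullback_point (hreg : ∀ y : X, IsRegularLocalRing (X.presheaf.stalk y))
    (hπk : π ≫ (X ↘ Spec (CommRingCat.of k)) = X' ↘ Spec (CommRingCat.of k))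
    (hπ : BlowUp.IsBlowUp π (Scheme.IdealSheafData.vanishingIdeal ⟨{x}, hx⟩)) [IsProper π] (n : ℕ)
    (hn : ((n + 1 : ℕ) : WithBot ℕ∞) = ringKrullDim (X.presheaf.stalk x))
    {N : X.Modules} (hN : PicF.IsInvertible N) :
    Curv2.euler k X' ((Scheme.Modules.pullback π).obj N) = Curv2.euler k X N := by
  haveI := H28Int.isNoetherian k (X := X)
  let i := (Scheme.IdealSheafData.vanishingIdeal (X := X) ⟨{x}, hx⟩).subschemeι
  have hi := isRegularImmersionOfCodim_point hreg hx hn
  have hπ' : BlowUp.IsBlowUp π i.ker := by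
    rw [Scheme.IdealSheafData.ker_subschemeι]; exact hπ
  have hF : FlatMod.IsFinLocFree N := H28Pinch.isFinLocFree_of_isInvertible hN
  haveI := H28Pinch.isIso_unit_of_isFinLocFree π (H11Blow.bijective_app hreg i n hi hπ') N hF
  let P := {W : X.Opens | H11Blow.GoodOpen i.ker n W ∧ ∃ (U : X.Opens) (r : ℕ), W ≤ U ∧
    Nonempty (N.restrict U.ι ≅ FlatMod.freeMod U.toScheme r)}
  have hP : Opens.IsBasis P := Opens.isBasis_iff_nbhd.2 fun {O y} hy => by
    obtain ⟨W, hW, hyW, hWO⟩ := H11Blow.exists_basis_finLocFree i n hi hF hy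
    exact ⟨W, hW, hyW, hWO⟩
  refine Eq.trans (Eq.symm ?_)
    (H25Euler.euler_congr (asIso ((Scheme.Modules.pullbackPushforwardAdjunction π).unit.app N)).symm)
  refine finsum_congr fun p => ?_
  congr 2
  exact finrank_HH_push_of_basis k π hπk _ P hP (fun W hW q hq => by
    obtain ⟨hG, U, r, hWU, ⟨e⟩⟩ := hW
    exact H11Blow.subsingleton_pullback i.ker hπ' hG hWU e hq) p

include k in
/-- Euler characteristics of modules on the exceptional divisor. -/
theorem euler_exc [IsProper (X' ↘ Spec (CommRingCat.of k))]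
    (hπk : π ≫ (X ↘ Spec (CommRingCat.of k)) = X' ↘ Spec (CommRingCat.of k)) (n : ℕ) (hn : 0 < n)
    (c : CohB1.ProjSpace n (X.residueField x) ⟶
        (BlowUp.exceptional π (Scheme.IdealSheafData.vanishingIdeal ⟨{x}, hx⟩)).subscheme) [IsIso c]
    (hc : c ≫ (BlowUp.exceptional π (Scheme.IdealSheafData.vanishingIdeal ⟨{x}, hx⟩)).subschemeι ≫ π =
      CohB1.ProjSpace.toSpec n (X.residueField x) ≫ X.fromSpecResidueField x)
    (G : (BlowUp.exceptional π (Scheme.IdealSheafData.vanishingIdeal ⟨{x}, hx⟩)).subscheme.Modules)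
    (hG : PicF.IsInvertible G) (d : ℤ)
    (e : (Scheme.Modules.pullback c).obj G ≅ Twist.twistProjSpace n (X.residueField x) d) :
    letI : Algebra k (X.residueField x) := Curv2.resAlgebra k X x
    Curv2.euler k X' ((Coh.push (BlowUp.exceptional π (Scheme.IdealSheafData.vanishingIdeal ⟨{x}, hx⟩)).subschemeι).obj G) =
      (Module.finrank k (X.residueField x) : ℤ) * Ring.choose (d + n) n := by
  letI : Algebra k (X.residueField x) := Curv2.resAlgebra k X x
  let κ := X.residueField x
  let j := (BlowUp.exceptional π (Scheme.IdealSheafData.vanishingIdeal (X := X) ⟨{x}, hx⟩)).subschemeι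
  let E := (BlowUp.exceptional π (Scheme.IdealSheafData.vanishingIdeal (X := X) ⟨{x}, hx⟩)).subscheme
  letI : E.Over (Spec (CommRingCat.of k)) := ⟨j ≫ (X' ↘ Spec (CommRingCat.of k))⟩
  letI : (CohB1.ProjSpace n κ).Over (Spec (CommRingCat.of k)) := ⟨c ≫ j ≫ (X' ↘ Spec (CommRingCat.of k))⟩
  haveI : IsProper (CohB1.ProjSpace n κ ↘ Spec (CommRingCat.of k)) :=
    inferInstanceAs (IsProper (c ≫ j ≫ (X' ↘ Spec (CommRingCat.of k))))
  have hO := H22Alg.RegSheaf.isInvertible_twistProjSpace n κ d
  haveI : G.IsQuasicoherent := H28Mero.isQCoh_of_isInvertible hG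
  haveI : ((Scheme.Modules.pullback c).obj G).IsQuasicoherent := inferInstance
  rw [H28Int.Push.euler_push k j rfl G]
  have h1 : Curv2.euler k E ((Coh.push c).obj ((Scheme.Modules.pullback c).obj G)) = Curv2.euler k E G := by
    haveI : IsIso ((Scheme.Modules.pullbackPushforwardAdjunction c).unit.app G) :=
      H28Pinch.isIso_unit_of_isFinLocFree c (fun V => by
        haveI : IsIso (c.app V) := Scheme.Hom.isIso_app _ _ (fun z _ => ⟨inv c z, by
          rw [← Scheme.Hom.comp_apply, IsIso.inv_hom_id]; rfl⟩)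
        exact ConcreteCategory.bijective_of_isIso _) G (H28Pinch.isFinLocFree_of_isInvertible hG)
    exact H25Euler.euler_congr (asIso ((Scheme.Modules.pullbackPushforwardAdjunction c).unit.app G)).symm
  rw [← h1, H28Int.Push.euler_push k c rfl _, H25Euler.euler_congr e]
  have htow : ∀ a, @Coh.toGlobal (CohB1.ProjSpace n κ) κ _ (CohB1.ProjSpace.toSpec n κ) (algebraMap k κ a) =
      Coh.toGlobal (CohB1.ProjSpace n κ ↘ Spec (CommRingCat.of k)) a := by
    intro a
    have hs : CohB1.ProjSpace n κ ↘ Spec (CommRingCat.of k) =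
        CohB1.ProjSpace.toSpec n κ ≫ Spec.map (CommRingCat.ofHom (algebraMap k κ)) := by
      show c ≫ j ≫ (X' ↘ Spec (CommRingCat.of k)) = _
      rw [← hπk, reassoc_of% hc]
      congr 1
      exact fromSpecResidueField_hom k x
    rw [hs]
    show ((Scheme.ΓSpecIso (CommRingCat.of κ)).inv ≫ _).hom ((CommRingCat.ofHom (algebraMap k κ)).hom a) =
      ((Scheme.ΓSpecIso (CommRingCat.of k)).inv ≫ (CohB1.ProjSpace.toSpec n κ ≫
        Spec.map (CommRingCat.ofHom (algebraMap k κ))).appTop).hom a
    rw [Scheme.Hom.comp_appTop, ← Scheme.ΓSpecIso_inv_naturality_assoc]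
    rfl
  have h2 := S4466.result κ n hn d
  letI iκ : (CohB1.ProjSpace n κ).Over (Spec (CommRingCat.of κ)) := ⟨CohB1.ProjSpace.toSpec n κ⟩
  rw [← h2, Finset.mul_sum]
  refine (H25Euler.euler_eq_sum (k := k) _ (n + 1) fun p hp => ?_).trans (Finset.sum_congr rfl fun p _ => ?_)
  · exact H10Coh.Pn.subsingleton_HH_Od (n := n) (R := κ) (d := d) p (by omega) (by omega)
  · rw [H28Vert.finrank_HH_tower k κ (E := CohB1.ProjSpace n κ) htow]
    push_cast
    ring

end Groth.Agent.H11PicBlow
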